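import Groth.Agent.CohLES.Basic
import Groth.Agent.CohDev.K0
import Groth.Agent.HilbPolyX.Dim
import Groth.Agent.ProjTwist.Pn.SupportVanish
import Groth.Agent.PerfTri.Bounded
import Mathlib.RingTheory.Noetherian.Basic
import Mathlib.LinearAlgebra.FiniteDimensional.Basic

/-!
# Descending induction for cohomology above a bound

If every coherent module is a quotient of a coherent module whose cohomology above degree `r` vanishes
(is finite), then the same holds for every coherent module.
-/

set_option autoImplicit false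
set_option linter.style.haveILetI false

universe u

open CategoryTheory Limits AlgebraicGeometry TopologicalSpace

noncomputable section

namespace Groth.Agent.CohDimLib

variable (k : Type u) [Field k] {S : Scheme.{u}} [S.Over (Spec (CommRingCat.of k))]
  [LocallyOfFiniteType (S ↘ Spec (CommRingCat.of k))] [QuasiCompact (S ↘ Spec (CommRingCat.of k))]

include k

theorem isNoetherian_over : IsNoetherian S := by
  haveI : IsLocallyNoetherian S := LocallyOfFiniteType.isLocallyNoetherian (S ↘ Spec (CommRingCat.of k))
  haveI : CompactSpace S := QuasiCompact.compactSpace_of_compactSpace (S ↘ Spec (CommRingCat.of k))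
  exact {}

theorem exists_top : ∃ D : ℕ, ∀ F : S.Modules, Coh.IsCoh F → ∀ i, D < i → Subsingleton (Coh.HH S F i) := by
  haveI := isNoetherian_over k (S := S)
  obtain ⟨D, hD⟩ := HilbPolyX.exists_dim_le k S
  exact ⟨D, fun F hF i hi => ProjTwist.Pn.subsingleton_of_supportDim_le hF D
    ((Topology.IsInducing.subtypeVal.topologicalKrullDim_le).trans hD) i hi⟩

/-- Vanishing above `r` passes from enough modules to all coherent modules. -/
theorem subsingleton_of_quot (r : ℕ)
    (hgen : ∀ F : S.Modules, Coh.IsCoh F → ∃ (E : S.Modules) (π : E ⟶ F), Coh.IsCoh E ∧ Epi π ∧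
      ∀ i, r < i → Subsingleton (Coh.HH S E i))
    {F : S.Modules} (hF : Coh.IsCoh F) {i : ℕ} (hi : r < i) : Subsingleton (Coh.HH S F i) := by
  haveI := isNoetherian_over k (S := S)
  obtain ⟨D, hD⟩ := exists_top k (S := S)
  suffices H : ∀ j, ∀ F : S.Modules, Coh.IsCoh F → ∀ i, r < i → D + 1 ≤ i + j → Subsingleton (Coh.HH S F i) from
    H (D + 1) F hF i hi (by omega)
  intro j
  induction j with
  | zero => exact fun F hF i _ hij => hD F hF i (by omega)
  | succ j ih =>
    intro F hF i hri hij
    obtain ⟨E, π, hE, hπ, hEv⟩ := hgen F hF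
    have hS : (ShortComplex.mk (kernel.ι π) π (kernel.condition π)).ShortExact :=
      ShortComplex.ShortExact.mk' (ShortComplex.exact_of_f_is_kernel _ (kernelIsKernel π)) inferInstance hπ
    haveI : Subsingleton (Coh.HH S (kernel π) (i + 1)) :=
      ih _ (CohDev.isCoh_kernel' π hE hF) (i + 1) (by omega) (by omega)
    haveI := hEv i hri
    refine subsingleton_of_forall_eq 0 fun x => ?_
    obtain ⟨y, rfl⟩ := CohLES.exact₃ k hS rfl x (Subsingleton.elim _ _)
    rw [Subsingleton.elim y 0, map_zero]

/-- Finiteness above `r` passes from enough modules to all coherent modules. -/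
theorem finite_of_quot (r : ℕ)
    (hgen : ∀ F : S.Modules, Coh.IsCoh F → ∃ (E : S.Modules) (π : E ⟶ F), Coh.IsCoh E ∧ Epi π ∧
      ∀ i, r < i → Module.Finite k (Coh.HH S E i))
    {F : S.Modules} (hF : Coh.IsCoh F) {i : ℕ} (hi : r < i) : Module.Finite k (Coh.HH S F i) := by
  haveI := isNoetherian_over k (S := S)
  obtain ⟨D, hD⟩ := exists_top k (S := S)
  suffices H : ∀ j, ∀ F : S.Modules, Coh.IsCoh F → ∀ i, r < i → D + 1 ≤ i + j → Module.Finite k (Coh.HH S F i) from
    H (D + 1) F hF i hi (by omega)
  intro j
  induction j with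
  | zero =>
    intro F hF i _ hij
    haveI := hD F hF i (by omega)
    infer_instance
  | succ j ih =>
    intro F hF i hri hij
    obtain ⟨E, π, hE, hπ, hEv⟩ := hgen F hF
    have hS : (ShortComplex.mk (kernel.ι π) π (kernel.condition π)).ShortExact :=
      ShortComplex.ShortExact.mk' (ShortComplex.exact_of_f_is_kernel _ (kernelIsKernel π)) inferInstance hπ
    haveI := ih _ (CohDev.isCoh_kernel' π hE hF) (i + 1) (by omega) (by omega)
    haveI := hEv i hri
    haveI : IsNoetherian k (Coh.HH S (kernel π) (i + 1)) := inferInstance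
    haveI : IsNoetherian k (Coh.HH S E i) := inferInstance
    have hex : Function.Exact (CohLES.mapL k π i) (CohLES.δL k hS i (i + 1) rfl) := fun x =>
      ⟨fun hx => CohLES.exact₃ k hS rfl x hx, fun ⟨y, hy⟩ => hy ▸ CohLES.δL_mapL k hS rfl y⟩
    haveI : _root_.IsNoetherian k (Coh.HH S F i) :=
      isNoetherian_of_range_eq_ker (CohLES.mapL k π i) (CohLES.δL k hS i (i + 1) rfl) hex.linearMap_ker_eq.symm
    infer_instance

omit [LocallyOfFiniteType (S ↘ Spec (CommRingCat.of k))] [QuasiCompact (S ↘ Spec (CommRingCat.of k))] in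
/-- Vanishing for finite direct sums. -/
theorem subsingleton_biproduct {m : ℕ} (N : Fin m → S.Modules) (i : ℕ)
    (h : ∀ j, Subsingleton (Coh.HH S (N j) i)) : Subsingleton (Coh.HH S (⨁ N) i) := by
  refine subsingleton_of_forall_eq 0 fun x => ?_
  have hx : CohLES.mapL k (∑ j, biproduct.π N j ≫ biproduct.ι N j) i x = x := by
    rw [biproduct.total, CohLES.mapL_id]
    rfl
  rw [← hx, CohLES.mapL_sum, LinearMap.sum_apply]
  refine Finset.sum_eq_zero fun j _ => ?_
  rw [CohLES.mapL_comp, LinearMap.comp_apply, Subsingleton.elim (CohLES.mapL k (biproduct.π N j) i x) 0, map_zero]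

end Groth.Agent.CohDimLib
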